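import Cfsg.Agent.H52.E6Invol.Collect
import Cfsg.Agent.H21.Invol.E6Check
import Cfsg.Agent.H53.TwistE6Res
import Cfsg.Agent.H52.TwistOrderE6

/-!
Coordinates on the maximal unipotent subgroup of ²E₆(q) in characteristic two.
-/

set_option autoImplicit false
set_option linter.unusedSectionVars false
set_option maxRecDepth 8000
set_option maxHeartbeats 400000

namespace H52.E6Inv

open Cfsg.Lie H52 H21.Invol

/-- The classes of positive roots under the symmetry, by height. -/
def cls : List (List ℕ) :=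
  [[36, 56], [37, 42], [39], [46], [38, 57], [40, 43], [47], [41, 58], [44], [48, 50], [45, 59], [49, 61],
    [51], [52, 62], [53], [60], [54, 64], [63], [55, 67], [65], [66, 68], [69], [70], [71]]

/-- The order of the coordinates. -/
def ord : List ℕ :=
  [36, 56, 37, 42, 39, 46, 38, 57, 40, 43, 47, 41, 58, 44, 48, 50, 45, 59, 49, 61, 51, 52, 62, 53, 60, 54,
    64, 63, 55, 67, 65, 66, 68, 69, 70, 71]

/-- The position of a root. -/
def key (r : ℕ) : ℕ :=
  ([100, 101, 102, 103, 104, 105, 106, 107, 108, 109, 110, 111, 112, 113, 114, 115, 116, 117, 118, 119, 120,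
    121, 122, 123, 124, 125, 126, 127, 128, 129, 130, 131, 132, 133, 134, 135, 0, 2, 6, 4, 8, 11, 3, 9, 13,
    16, 5, 10, 14, 18, 15, 20, 21, 23, 25, 28, 1, 7, 12, 17, 24, 19, 22, 27, 26, 30, 31, 29, 32, 33, 34, 35] :
    List ℕ).getD r 200

/-- The symmetry on the roots. -/
def rho (r : ℕ) : ℕ :=
  if r < 72 then
    ([0, 1, 2, 5, 16, 3, 6, 17, 8, 19, 22, 11, 26, 30, 33, 35, 4, 7, 18, 9, 20, 23, 10, 21, 24, 25, 12, 27,
      31, 34, 13, 28, 32, 14, 29, 15, 56, 42, 57, 39, 43, 58, 37, 40, 44, 59, 46, 47, 50, 61, 48, 51, 62, 53,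
      64, 67, 36, 38, 41, 45, 60, 49, 52, 63, 54, 65, 68, 55, 66, 69, 70, 71] : List ℕ).getD r 0
  else r

/-- The roots in a mask. -/
def lstT (m : ℕ) : List ℕ := ord.filter fun r => m.testBit r

/-- The word of collection with respect to the coordinates. -/
def push6 (w : Wd) : Option Wd := pushesK chevE6 E6.tab key fuel w []

theorem rho_table : ∀ r < 72, rho r < 72 ∧ rho (rho r) = r ∧ rho r = H53.e6Sym.qn r := by
  decide +kernel

theorem ord_table : ∀ r ∈ ord, 36 ≤ r ∧ r < 72 ∧ rho r ∈ ord := by decide +kernel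

theorem ord_nodup : ord.Nodup := by decide +kernel

theorem cls_table : cls.flatten = ord ∧ ∀ c ∈ cls, (∃ r ∈ List.range 72, c = [r] ∧ rho r = r) ∨
    ∃ r ∈ List.range 72, c = [r, rho r] ∧ rho r ≠ r ∧ rho r ≠ chevE6.neg r ∧
      chevE6.commTerms r (rho r) = [] := by
  decide +kernel

theorem cls_of_mem : ∀ s ∈ ord, (ord.filter fun r => r == s || r == rho s) =
    if key s < key (rho s) then [s, rho s] else if rho s = s then [s] else [rho s, s] := by
  decide +kernel

theorem push_index : ∃ L, push6 (varW (posList chevE6)) = some L ∧ isNFK ord L = true := by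
  have h : ((push6 (varW (posList chevE6))).any fun L => isNFK ord L) = true := by decide +kernel
  obtain ⟨L, hL, h⟩ := (Option.any_eq_true _ _).1 h
  exact ⟨L, hL, h⟩

/-- The check that the coordinates are determined. -/
def triangular (L : Wd) : Bool :=
  isNF chevE6 L && (List.range 36).all fun k =>
    let r := ord.getD k 0
    (posList chevE6).contains r && (tog [r] (coef L r)).all fun m => m.all fun v => (ord.take k).contains v

theorem push_ord : ∃ L, pushes chevE6 E6.tab fuel (varW ord) [] = some L ∧ triangular L = true := by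
  have h : ((pushes chevE6 E6.tab fuel (varW ord) []).any fun L => triangular L) = true := by
    decide +kernel
  obtain ⟨L, hL, h⟩ := (Option.any_eq_true _ _).1 h
  exact ⟨L, hL, h⟩

variable {F : Type*} [Field F]

/-- The element with given coordinates. -/
noncomputable def elt (a : ℕ → F) : GL chevE6.Idx F := prodRt chevE6 ord a

/-- The coordinates are compatible with the twist. -/
def Tw (q : ℕ) (a : ℕ → F) : Prop := ∀ r ∈ ord, a (rho r) = a r ^ q

theorem wordRt_flatten (L : List (List ℕ)) (a : ℕ → F) :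
    prodRt chevE6 L.flatten a = (L.map fun c => prodRt chevE6 c a).prod := by
  induction L with
  | nil => simp [prodRt, wordRt]
  | cons c L ih =>
    rw [List.flatten_cons, List.map_cons, List.prod_cons, ← ih]
    simp [prodRt, wordRt, List.map_append, List.prod_append]

theorem prodRt_filter_of (L : List ℕ) (p : ℕ → Bool) (a : ℕ → F) (h : ∀ r ∈ L, p r = false → a r = 0) :
    prodRt chevE6 (L.filter p) a = prodRt chevE6 L a := by
  induction L with
  | nil => rfl
  | cons x L ih =>
    have ih' := ih fun r hr => h r (List.mem_cons_of_mem _ hr)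
    by_cases hx : p x = true
    · rw [List.filter_cons_of_pos hx]
      simp only [prodRt, wordRt, List.map_cons, List.prod_cons] at ih' ⊢
      rw [ih']
    · rw [List.filter_cons_of_neg hx, ih']
      simp [prodRt, wordRt, h x List.mem_cons_self (by simpa using hx), checkedE6.rt_zero]

variable [Fintype F] [CharP F 2]

theorem evW6 (ρ : ℕ → F) {w L : Wd} (h : push6 w = some L) (hw : ∀ p ∈ w, p.1 < 72) :
    evW chevE6 ρ L = evW chevE6 ρ w := by
  have := (evW_pushesK checkedE6 CharTwo.two_eq_zero E6.tab_ok key ρ fuel w [] L h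
    (by rw [List.append_nil]; exact hw)).1
  rwa [evW_nil, mul_one] at this

theorem elt_mem_pos (a : ℕ → F) : elt a ∈ chevE6.posUnipotent F := by
  rw [checkedE6.posUnipotent_eq]
  refine Checked.wordRt_mem _ _ fun p hp => ?_
  obtain ⟨r, hr, rfl⟩ := List.mem_map.1 hp
  obtain ⟨h1, h2, -⟩ := ord_table r hr
  exact Checked.rt_mem_upper (show chevE6.nroots / 2 ≤ r from h1) h2 _

theorem elt_mem_group (a : ℕ → F) : elt a ∈ chevE6.group F := by
  refine list_prod_mem fun x hx => ?_
  obtain ⟨p, -, rfl⟩ := List.mem_map.1 hx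
  exact checkedE6.rt_mem_group _ _

/-- Every positive element has coordinates. -/
theorem exists_elt {g : GL chevE6.Idx F} (hg : g ∈ chevE6.posUnipotent F) : ∃ a, g = elt a := by
  rw [checkedE6.posUnipotent_eq] at hg
  obtain ⟨x, hx⟩ := checkedE6.exists_upProd (k := chevE6.nroots / 2) le_rfl hg
  obtain ⟨L, hL, hnf⟩ := push_index
  refine ⟨fun r => evP x (coef L r), ?_⟩
  have := evW6 x hL (fun p hp => by
    obtain ⟨r, hr, rfl⟩ := List.mem_map.1 hp
    exact (lt_of_mem_posList checkedE6 hr).2)
  rw [evW_isNFK checkedE6 x hnf, evW_varW] at this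
  exact hx.trans this.symm

/-- The coordinates are unique. -/
theorem elt_inj {a b : ℕ → F} (h : elt a = elt b) : ∀ r ∈ ord, a r = b r := by
  obtain ⟨L, hL, ht⟩ := push_ord
  simp only [triangular, Bool.and_eq_true, List.all_eq_true, List.mem_range, List.contains_iff_mem] at ht
  obtain ⟨hnf, hk⟩ := ht
  have e : ∀ ρ : ℕ → F, evW chevE6 ρ L = elt ρ := fun ρ => by
    rw [evW_pushes CharTwo.two_eq_zero ρ checkedE6 E6.tab_ok _ _ _ _ hL, evW_nil, mul_one, evW_varW]
    rfl
  rw [← e a, ← e b, evW_isNF a checkedE6 hnf, evW_isNF b checkedE6 hnf] at h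
  have key : ∀ k, k < 36 → a (ord.getD k 0) = b (ord.getD k 0) := by
    intro k
    induction k using Nat.strong_induction_on with
    | _ k ih =>
    intro hk'
    obtain ⟨hr, hv⟩ := hk k hk'
    obtain ⟨h1, h2⟩ := lt_of_mem_posList checkedE6 hr
    have hc := checkedE6.upProd_injective (k := chevE6.nroots / 2) le_rfl h _ h1 h2
    set r := ord.getD k 0
    have hP : ∀ ρ : ℕ → F, evP ρ (tog [r] (coef L r)) = ρ r + evP ρ (coef L r) := fun ρ => by
      rw [evP_tog CharTwo.two_eq_zero]
      simp [evM]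
    have heq : evP a (tog [r] (coef L r)) = evP b (tog [r] (coef L r)) := by
      refine congrArg List.sum (List.map_congr_left fun m hm => congrArg List.prod (List.map_congr_left
        fun v hv' => ?_))
      obtain ⟨j, hj, rfl⟩ := List.getElem_of_mem (hv m hm v hv')
      rw [List.length_take] at hj
      rw [List.getElem_take, ← List.getD_eq_getElem ord 0 (by omega)]
      exact ih j (by omega) (by omega)
    rw [hP, hP, hc] at heq
    exact add_right_cancel heq
  intro r hr
  obtain ⟨k, hk, rfl⟩ := List.getElem_of_mem hr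
  rw [← List.getD_eq_getElem ord 0 hk]
  exact key k hk

variable {q : ℕ} (hq : IsPrimePow q) (hK : Fintype.card F = q ^ 2)
include hq hK

theorem exists_exp : ∃ i, 0 < i ∧ q = 2 ^ i := by
  obtain ⟨n, -, hn⟩ := FiniteField.card F 2
  obtain ⟨i, -, hi⟩ := (Nat.dvd_prime_pow Nat.prime_two).1
    (show q ∣ 2 ^ (n : ℕ) by rw [← hn, hK]; exact dvd_pow_self q (by norm_num))
  refine ⟨i, Nat.pos_of_ne_zero ?_, hi⟩
  rintro rfl
  exact hq.ne_one hi

theorem add_powq (x y : F) : (x + y) ^ q = x ^ q + y ^ q := by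
  haveI : Fact (Nat.Prime 2) := ⟨Nat.prime_two⟩
  obtain ⟨i, -, rfl⟩ := exists_exp hq hK
  exact add_pow_char_pow x y 2 i

theorem powq_powq (t : F) : (t ^ q) ^ q = t := H53.pow_pow_self hK t

theorem powq_zero : (0 : F) ^ q = 0 := zero_pow hq.pos.ne'

/-- The twist on the coordinates. -/
theorem twist_elt {f : F ≃+* F} (hf : ∀ x, f x = x ^ q) (a : ℕ → F) :
    (H53.twistAut H53.e6Sym H53.e6Sym_valid f ⟨elt a, elt_mem_group a⟩ : GL chevE6.Idx F) =
      elt fun r => a (rho r) ^ q := by
  haveI := hq
  obtain ⟨hflat, hcl⟩ := cls_table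
  let φ : ↥(chevE6.group F) →* GL chevE6.Idx F :=
    (chevE6.group F).subtype.comp (H53.twistAut H53.e6Sym H53.e6Sym_valid f).toMonoidHom
  have hrt : ∀ r, r < 72 → ∀ t : F,
      φ ⟨rt chevE6 r t, checkedE6.rt_mem_group r t⟩ = rt chevE6 (rho r) (t ^ q) := by
    intro r hr t
    have e := H53.twistAut_rt checkedE6 H53.e6Sym_valid f (show r < chevE6.nroots from hr)
      (g := ⟨rt chevE6 r t, checkedE6.rt_mem_group r t⟩) rfl
    rw [← (rho_table r hr).2.2, hf] at e
    refine e.trans ?_
    congr 1
    rcases mul_self_eq_one_iff.1 (show H53.e6Sym.sn r * H53.e6Sym.sn r = 1 by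
      rw [H53.BasisSym.sn, dif_pos (show r < chevE6.nroots from hr)]
      exact H53.e6Sym_valid.sgn_sq _) with h | h <;> rw [h] <;> simp [CharTwo.neg_eq]
  have main : ∀ L : List (List ℕ), (∀ c ∈ L, c ∈ cls) →
      ∃ hm : prodRt chevE6 L.flatten a ∈ chevE6.group F,
        φ ⟨_, hm⟩ = prodRt chevE6 L.flatten fun r => a (rho r) ^ q := by
    intro L
    induction L with
    | nil => exact fun _ => ⟨one_mem _, (congrArg φ (Subtype.ext rfl)).trans (map_one φ)⟩
    | cons c L ih =>
      intro h
      obtain ⟨hm, he⟩ := ih fun d hd => h d (List.mem_cons_of_mem _ hd)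
      have hsplit : ∀ b : ℕ → F, prodRt chevE6 (c :: L).flatten b =
          prodRt chevE6 c b * prodRt chevE6 L.flatten b := fun b => by
        simp [prodRt, wordRt, List.map_append, List.prod_append]
      rcases hcl c (h c List.mem_cons_self) with ⟨r, hr, rfl, hfix⟩ | ⟨r, hr, rfl, hne, hneg, hct⟩
      all_goals rw [List.mem_range] at hr
      · have e1 : ∀ b : ℕ → F, prodRt chevE6 [r] b = rt chevE6 r (b r) := fun b => by
          simp [prodRt, wordRt]
        refine ⟨by rw [hsplit, e1]; exact mul_mem (checkedE6.rt_mem_group _ _) hm, ?_⟩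
        have : (⟨prodRt chevE6 ([r] :: L).flatten a, by
            rw [hsplit, e1]; exact mul_mem (checkedE6.rt_mem_group _ _) hm⟩ : ↥(chevE6.group F)) =
            ⟨rt chevE6 r (a r), checkedE6.rt_mem_group _ _⟩ * ⟨_, hm⟩ :=
          Subtype.ext (by rw [Subgroup.coe_mul]; exact (hsplit a).trans (by rw [e1]))
        rw [this, map_mul, hrt r hr, he, hsplit, e1, hfix]
      · have e1 : ∀ b : ℕ → F, prodRt chevE6 [r, rho r] b =
            rt chevE6 r (b r) * rt chevE6 (rho r) (b (rho r)) := fun b => by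
          simp [prodRt, wordRt]
        obtain ⟨hr', hrr, -⟩ := rho_table r hr
        refine ⟨by rw [hsplit, e1]; exact mul_mem (mul_mem (checkedE6.rt_mem_group _ _)
          (checkedE6.rt_mem_group _ _)) hm, ?_⟩
        have : (⟨prodRt chevE6 ([r, rho r] :: L).flatten a, by
            rw [hsplit, e1]; exact mul_mem (mul_mem (checkedE6.rt_mem_group _ _)
              (checkedE6.rt_mem_group _ _)) hm⟩ : ↥(chevE6.group F)) =
            ⟨rt chevE6 r (a r), checkedE6.rt_mem_group _ _⟩ *
              ⟨rt chevE6 (rho r) (a (rho r)), checkedE6.rt_mem_group _ _⟩ * ⟨_, hm⟩ :=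
          Subtype.ext (by rw [Subgroup.coe_mul, Subgroup.coe_mul]; exact (hsplit a).trans (by rw [e1]))
        rw [this, map_mul, map_mul, hrt r hr, hrt (rho r) hr', he, hsplit, e1, hrr]
        congr 1
        exact (H53.rt_commute checkedE6 (show r < chevE6.nroots from hr) hr' hne hneg hct _ _).symm
  obtain ⟨hm, he⟩ := main cls fun _ h => h
  have : (⟨elt a, elt_mem_group a⟩ : ↥(chevE6.group F)) = ⟨_, hm⟩ :=
    Subtype.ext (show prodRt chevE6 ord a = prodRt chevE6 cls.flatten a by rw [hflat])
  show φ _ = _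
  rw [this, he, hflat]
  rfl

/-- Elements with compatible coordinates lie in the twisted group. -/
theorem elt_mem {a : ℕ → F} (ha : Tw q a) : elt a ∈ twistedE6 F q := by
  obtain ⟨f, hf⟩ := H53.E6T.exists_f hq hK
  have hT := H53.E6T.hyp hf (powq_powq hq hK) hq.pos.ne'
  have hu : (⟨elt a, elt_mem_group a⟩ : ↥(chevE6.group F)) ∈
      (H53.grpSys H53.weylForE6 F).Uplus :=
    (H53.mem_pos_iff checkedE6 H53.weylForE6 _).1 (elt_mem_pos a)
  have hfix : H53.twistAut H53.e6Sym H53.e6Sym_valid f ⟨elt a, elt_mem_group a⟩ =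
      ⟨elt a, elt_mem_group a⟩ := by
    refine Subtype.ext ((twist_elt hq hK hf a).trans ?_)
    show prodRt chevE6 ord _ = prodRt chevE6 ord a
    refine congrArg (wordRt chevE6) (List.map_congr_left fun r hr => ?_)
    show (r, a (rho r) ^ q) = (r, a r)
    rw [ha r hr, powq_powq hq hK]
  exact Subgroup.mem_subgroupOf.1 (H53.TwistData.fix_Uplus_mem hT hu hfix)

/-- Coordinates of elements of the twisted group are compatible. -/
theorem tw_of_mem {a : ℕ → F} (h : elt a ∈ twistedE6 F q) : Tw q a := by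
  obtain ⟨f, hf⟩ := H53.E6T.exists_f hq hK
  have he := congrArg (fun z : ↥(chevE6.group F) => (z : GL chevE6.Idx F))
    (H53.E6T.fix hf (powq_powq hq hK) ⟨elt a, elt_mem_group a⟩ (Subgroup.mem_subgroupOf.2 h))
  simp only at he
  rw [twist_elt hq hK hf a] at he
  intro r hr
  obtain ⟨-, h2, h3⟩ := ord_table r hr
  have := elt_inj he (rho r) h3
  simp only [(rho_table r h2).2.1] at this
  exact this.symm

end H52.E6Inv
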