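import Cfsg.Agent.H52.E6Invol.Basic

/-!
Checker for certificates that reduce the involutions of the positive part of ²E₆(q), `q` even, to given
products of root elements.
-/

set_option autoImplicit false
set_option linter.unusedSectionVars false

namespace H52.E6Inv

open Cfsg.Lie H52 H21.Invol

/-- The ways to solve for the parameter of a conjugation at a pivot. -/
inductive Kind where
  | ff
  | pp (snd : Bool)
  | norm
  | tr
  | pf (u2 : ℕ) (k1 k2 : Mon)

/-- The moves between states with all coordinates 1: `x` conjugates by a root class with parameter 1, or by
a pair with parameters `c`, `c^q`, `c + c^q = 1`. -/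
inductive NMove where
  | leaf
  | x (w : Bool) (s next : ℕ)
  | n (k next : ℕ)

/-- A state with all coordinates 1. -/
structure NSt where
  m : ℕ
  mv : NMove

/-- The steps between symbolic states. -/
inductive Step where
  | triv
  | split (r j0 j1 : ℕ)
  | contra (u : ℕ)
  | zero (u s next : ℕ)
  | conj (kd : Kind) (s u next : ℕ)
  | num (next e : ℕ) (v : List (List ℤ))

/-- A symbolic state. -/
structure St where
  nN : ℕ
  nS : ℕ
  st : Step

/-- The parameters of a conjugation. -/
def parW (s : ℕ) : Wd :=
  if rho s = s then [(s, [[72]])] else [(s, [[72]]), (rho s, [[73]])]

/-- The conjugate of a word by the parameters at `s`. -/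
def conjBy (x w : Wd) : Wd := x ++ (w ++ x.reverse)

/-- A monomial without the parameters. -/
def strip (m : Mon) : Mon := m.filter fun v => !(v == 72 || v == 73)

/-- All variables of a monomial are known nonzero. -/
def knownT (N : ℕ) (m : Mon) : Bool := m.all fun v => ord.contains v && N.testBit v

/-- The polynomial is a monomial in the known variables. -/
def knownPT (N : ℕ) : Pol → Bool
  | [m] => knownT N m
  | _ => false

/-- The image of a monomial under the symmetry. -/
def cjM (m : Mon) : Mon := (m.map rho).foldr mins []

/-- The image of a polynomial under the symmetry. -/
def cjP (P : Pol) : Pol := P.map cjM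

/-- The terms with a parameter. -/
def parT (P : Pol) : Pol := P.filter fun m => m.contains 72 || m.contains 73

/-- The terms without a parameter. -/
def restT (P : Pol) : Pol := P.filter fun m => !(m.contains 72 || m.contains 73)

/-- Two terms linear in the two parameters with known coefficients. -/
def trPair (N : ℕ) (m m' : Mon) : Bool :=
  m.count 72 == 1 && m.count 73 == 0 && m'.count 72 == 0 && m'.count 73 == 1 &&
    knownT N (strip m) && knownT N (strip m')

/-- Check a pivot. -/
def chkKind (kd : Kind) (N S s u : ℕ) (P : Pol) : Bool :=
  match kd with
  | .ff => rho s == s && rho u == u &&
      match parT P with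
      | [m] => (m.count 73 == 0) && (m.count 72 == 1 || m.count 72 == 2) && knownT N (strip m)
      | _ => false
  | .pp b => rho s != s && rho u != u &&
      match parT P with
      | [m] => (m.count (if b then 72 else 73) == 0) &&
          (m.count (if b then 73 else 72) == 1 || m.count (if b then 73 else 72) == 2) && knownT N (strip m)
      | _ => false
  | .norm => rho s != s && rho u == u &&
      match parT P with
      | [m] => m.count 72 == 1 && m.count 73 == 1 && knownT N (strip m)
      | _ => false
  | .tr => rho s != s && rho u == u &&
      match parT P with
      | [m, m'] => trPair N m m' || trPair N m' m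
      | _ => false
  | .pf u2 k1 k2 => rho s == s && rho u != u &&
      match parT P with
      | [m] => m.count 73 == 0 && (m.count 72 == 1 || m.count 72 == 2) && knownT N (strip m) &&
          (restT P).all (fun p => p.all fun v => ord.contains v) &&
          let X := pmul (restT P) [cjM (strip m)]
          let d := padd X (cjP X)
          X.all (fun p => p.all fun v => ord.contains v) &&
          (d.isEmpty || (knownT N k1 && ord.contains u2 &&
            match push6 (varW (lstT S) ++ varW (lstT S)) with
            | some L => isNFK ord L && (padd (pmul d [k1]) (pmul (coef L u2) [k2])).isEmpty
            | none => false))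
      | _ => false

/-- Check a symbolic state. -/
def chk (T : Tr St) (TN : Tr NSt) (lenN i : ℕ) : Bool :=
  let a := T.get i
  let N := a.nN
  let S := lstT a.nS
  match a.st with
  | .triv => S.isEmpty
  | .split r j0 j1 =>
      let c0 := T.get j0
      let c1 := T.get j1
      decide (j0 < i) && decide (j1 < i) && ord.contains r &&
        (lstT c0.nS == S.filter (fun x => !(x == r || x == rho r))) && (lstT c1.nS == S) &&
        ord.all (fun x => !c0.nN.testBit x || (N.testBit x && !(x == r || x == rho r))) &&
        ord.all (fun x => !c1.nN.testBit x || (N.testBit x || x == r || x == rho r))
  | .contra u =>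
      match push6 (varW S ++ varW S) with
      | some L => isNFK ord L && ord.contains u && knownPT N (coef L u)
      | none => false
  | .zero u s j =>
      let c := T.get j
      decide (j < i) && ord.contains s &&
        (lstT c.nS == S.filter (fun x => !(x == s || x == rho s))) &&
        ord.all (fun x => !c.nN.testBit x || (N.testBit x && !(x == s || x == rho s))) &&
        match push6 (varW S ++ varW S) with
        | some L => isNFK ord L && ord.contains u &&
            match coef L u with
            | [m] => m.all fun v => v == s || v == rho s || (ord.contains v && N.testBit v)
            | _ => false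
        | none => false
  | .conj kd s u j =>
      let c := T.get j
      decide (j < i) && ord.contains s && ord.contains u && decide (key s ≤ key (rho s)) &&
        match push6 (conjBy (parW s) (varW S)) with
        | some L => isNFK ord L &&
            (lstT c.nS).all (fun x => ord.contains x && x != u && x != rho u) &&
            ord.all (fun x => x == u || x == rho u || (lstT c.nS).contains x || (coef L x).isEmpty) &&
            ord.all (fun x => !c.nN.testBit x || (x != u && x != rho u && knownPT N (coef L x))) &&
            chkKind kd N a.nS s u (coef L u)
        | none => false
  | .num j e v =>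
      decide (j < lenN) && (lstT (TN.get j).m == S) && S.all (fun x => N.testBit x) &&
        chkTorus chevE6 S e v &&
        (List.range S.length).all (fun b => S.contains (rho (S.getD b 0)) &&
          (List.range 6).all fun k =>
            (v.getD (S.idxOf (rho (S.getD b 0))) []).getD (([5, 1, 4, 3, 2, 0] : List ℕ).getD k 0) 0 ==
              (v.getD b []).getD k 0)

/-- The value of a polynomial in a parameter `c` with `c + c^q = 1`. -/
def val01 (P : Pol) : Option Bool :=
  if P.isEmpty || (padd P [[], [72], [73]]).isEmpty then some false
  else if (padd P [[]]).isEmpty || (padd P [[72], [73]]).isEmpty then some true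
  else none

/-- The simple roots of the orbits. -/
def orbW (k : ℕ) : List ℕ := ([[1], [3], [0, 5], [2, 4]] : List (List ℕ)).getD k []

/-- A root moved by an orbit reflection. -/
def moved (k r : ℕ) : ℕ := (orbW k).foldr chevE6.reflectRoot r

/-- Check a state with coordinates 1. -/
def chkN (reps : List (List ℕ)) (T : Tr NSt) (i : ℕ) : Bool :=
  let a := T.get i
  match a.mv with
  | .leaf => reps.contains (lstT a.m)
  | .x w s j => decide (j < i) && ord.contains s && decide (key s ≤ key (rho s)) && (!w || rho s != s) &&
      match push6 (conjBy (if w then parW s else
          if rho s = s then [(s, [[]])] else [(s, [[]]), (rho s, [[]])]) (onesW (lstT a.m))) with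
      | some L => isNFK ord L && ord.all fun x => val01 (coef L x) == some ((lstT (T.get j).m).contains x)
      | none => false
  | .n k j => decide (j < i) && decide (k < 4) &&
      (lstT a.m).all (fun x => decide (moved k x < 72)) &&
      (push6 (onesW ((lstT a.m).map (moved k))) == some (onesW (lstT (T.get j).m)))

end H52.E6Inv
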