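import Cfsg.Agent.H21.Invol.Cert

/-!
Collection of words in root elements with respect to an arbitrary order of the roots, over a field of
characteristic two.
-/

set_option autoImplicit false
set_option linter.unusedSectionVars false
set_option maxHeartbeats 400000

namespace H52.E6Inv

open Cfsg.Lie H52 H21.Invol

/-- Collection: multiply the word `L`, ordered by `key`, on the left by the word. -/
def pushesK (D : ChevalleyDatum) (t : Tab) (key : ℕ → ℕ) : ℕ → Wd → Wd → Option Wd
  | _, [], L => some L
  | 0, _ :: _, _ => none
  | f + 1, (a, x) :: its, L =>
    match pushesK D t key f its L with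
    | none => none
    | some [] => some [(a, x)]
    | some ((b, y) :: R) =>
      if key a < key b then some ((a, x) :: (b, y) :: R)
      else if a = b then
        let z := padd x y
        some (if z.isEmpty then R else (a, z) :: R)
      else if a = D.neg b ∨ D.nroots ≤ a then none
      else pushesK D t key f ((b, y) :: (a, x) :: comm t b a y x) R

/-- The word is in normal form for the order `ord`. -/
def isNFK (ord : List ℕ) (w : Wd) : Bool :=
  w == (ord.filter fun r => !(coef w r).isEmpty).map fun r => (r, coef w r)

variable {D : ChevalleyDatum} {T : Tables} (hC : Checked D T) {F : Type*} [Field F]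
  (h2 : (2 : F) = 0) {t : Tab} (ht : ∀ r < D.nroots, tabOK D t r = true) (key : ℕ → ℕ)
  (ρ : ℕ → F)
include hC h2 ht

theorem evW_pushesK :
    ∀ (f : ℕ) (w L L' : Wd), pushesK D t key f w L = some L' → (∀ p ∈ w ++ L, p.1 < D.nroots) →
      evW D ρ L' = evW D ρ w * evW D ρ L ∧ ∀ p ∈ L', p.1 < D.nroots
  | f, [], L, L', h, hb => by
    rw [pushesK] at h
    cases h
    exact ⟨by rw [evW_nil, one_mul], fun p hp => hb p (List.mem_append_right _ hp)⟩
  | 0, _ :: _, _, _, h, _ => by simp [pushesK] at h
  | f + 1, (a, x) :: its, L, L', h, hb => by
    rw [pushesK] at h
    rw [evW_cons, mul_assoc]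
    have ha0 : a < D.nroots := hb (a, x) (by simp)
    cases hp : pushesK D t key f its L with
    | none => rw [hp] at h; cases h
    | some M =>
      rw [hp] at h
      obtain ⟨e1, hM⟩ := evW_pushesK f its L M hp fun p hp => hb p (by
        simp only [List.cons_append, List.mem_cons]; exact Or.inr hp)
      rw [← e1]
      cases M with
      | nil =>
        cases h
        exact ⟨by rw [evW_cons], by simpa using ha0⟩
      | cons p R =>
        obtain ⟨b, y⟩ := p
        have hb0 : b < D.nroots := hM (b, y) (by simp)
        have hR : ∀ p ∈ R, p.1 < D.nroots := fun p hp => hM p (List.mem_cons_of_mem _ hp)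
        simp only at h
        split_ifs at h with h1 h3 hz h4
        · cases h
          refine ⟨by rw [evW_cons ρ (a, x)], fun p hp => ?_⟩
          rcases List.mem_cons.1 hp with rfl | hp
          · exact ha0
          · exact hM p hp
        · cases h
          subst h3
          refine ⟨?_, hR⟩
          rw [evW_cons, ← mul_assoc, hC.rt_mul, ← evP_padd h2, List.isEmpty_iff.1 hz]
          simp [evP, hC.rt_zero]
        · cases h
          subst h3
          refine ⟨?_, fun p hp => ?_⟩
          · rw [evW_cons, evW_cons, ← mul_assoc, hC.rt_mul, evP_padd h2]
          · rcases List.mem_cons.1 hp with rfl | hp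
            · exact ha0
            · exact hR p hp
        · push Not at h4
          obtain ⟨hne, ha⟩ := h4
          have hcm : ∀ p ∈ comm t b a y x, p.1 < D.nroots := by
            intro p hp
            obtain ⟨c, hc, rfl⟩ := List.mem_map.1 (List.mem_filter.1 hp).1
            have hrs : t.at' b a = oddTerms D b a := by
              have := ht b hb0
              simp only [tabOK, List.all_eq_true, List.mem_range] at this
              exact eq_of_beq (this a ha)
            rw [hrs, oddTerms] at hc
            obtain ⟨e, he, hec⟩ := List.mem_filterMap.1 hc
            split_ifs at hec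
            cases hec
            exact hC.commTerms_lt e he
          obtain ⟨e2, hL'⟩ := evW_pushesK f _ R L' h fun p hp => by
            simp only [List.cons_append, List.mem_cons, List.mem_append] at hp
            rcases hp with rfl | rfl | hp | hp
            · exact hb0
            · exact ha
            · exact hcm p hp
            · exact hR p hp
          refine ⟨?_, hL'⟩
          rw [e2, evW_cons, evW_cons, evW_cons, evW_comm h2 ρ hC ht hb0 ha,
            ← mul_assoc (rt D a _) (rt D b _), hC.comm_rt hb0 ha h3 hne]
          simp only [mul_assoc]

omit h2 ht in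
theorem evW_isNFK {ord : List ℕ} {w : Wd} (h : isNFK ord w = true) :
    evW D ρ w = prodRt D ord fun r => evP ρ (coef w r) := by
  rw [isNFK, beq_iff_eq] at h
  conv_lhs => rw [h]
  rw [evW, prodRt, List.map_map]
  clear h
  induction ord with
  | nil => rfl
  | cons r R ih =>
    by_cases hr : (coef w r).isEmpty = true
    · rw [List.filter_cons_of_neg (by simp [hr]), ih]
      simp [wordRt, List.isEmpty_iff.1 hr, evP, hC.rt_zero]
    · rw [List.filter_cons_of_pos (by simp [hr])]
      simp only [wordRt, List.map_cons, List.prod_cons, Function.comp_apply] at ih ⊢
      rw [ih]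

end H52.E6Inv
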