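import Cfsg.Agent.H52.E6Invol.Data

/-!
The fourth part of the certificates for the involutions of ²E₆ passes the checks.
-/

set_option autoImplicit false
set_option maxRecDepth 20000
set_option maxHeartbeats 2000000

namespace H52.E6Inv.Data

open Cfsg.Lie

theorem sym_ok11 : ((List.range' 1408 128).all fun i => chk symT numT numTLen i) = true := by decide +kernel

theorem sym_ok12 : ((List.range' 1536 128).all fun i => chk symT numT numTLen i) = true := by decide +kernel

theorem sym_ok13 : ((List.range' 1664 100).all fun i => chk symT numT numTLen i) = true := by decide +kernel

end H52.E6Inv.Data
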