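import Cfsg.Agent.H52.E6Invol.DataCheckA
import Cfsg.Agent.H52.E6Invol.DataCheckB
import Cfsg.Agent.H52.E6Invol.DataCheckC
import Cfsg.Agent.H52.E6Invol.DataCheckD

/-!
The certificates for the involutions of ²E₆ pass the checks.
-/

set_option autoImplicit false
set_option maxRecDepth 20000
set_option maxHeartbeats 2000000

namespace H52.E6Inv.Data

open Cfsg.Lie

theorem num_ok0 : ((List.range 173).all fun i => chkN reps numT i) = true := by decide +kernel

theorem num_ok : ∀ i < numTLen, chkN reps numT i = true := fun i hi =>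
  List.all_eq_true.1 num_ok0 i (List.mem_range.2 hi)

theorem sym_ok : ∀ i < symTLen, chk symT numT numTLen i = true := by
  intro i hi
  have hi' : i < 1764 := hi
  by_cases h0 : i < 128
  · exact List.all_eq_true.1 sym_ok0 i (List.mem_range'_1.2 (by omega))
  by_cases h1 : i < 256
  · exact List.all_eq_true.1 sym_ok1 i (List.mem_range'_1.2 (by omega))
  by_cases h2 : i < 384
  · exact List.all_eq_true.1 sym_ok2 i (List.mem_range'_1.2 (by omega))
  by_cases h3 : i < 512
  · exact List.all_eq_true.1 sym_ok3 i (List.mem_range'_1.2 (by omega))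
  by_cases h4 : i < 640
  · exact List.all_eq_true.1 sym_ok4 i (List.mem_range'_1.2 (by omega))
  by_cases h5 : i < 768
  · exact List.all_eq_true.1 sym_ok5 i (List.mem_range'_1.2 (by omega))
  by_cases h6 : i < 896
  · exact List.all_eq_true.1 sym_ok6 i (List.mem_range'_1.2 (by omega))
  by_cases h7 : i < 1024
  · exact List.all_eq_true.1 sym_ok7 i (List.mem_range'_1.2 (by omega))
  by_cases h8 : i < 1152
  · exact List.all_eq_true.1 sym_ok8 i (List.mem_range'_1.2 (by omega))
  by_cases h9 : i < 1280
  · exact List.all_eq_true.1 sym_ok9 i (List.mem_range'_1.2 (by omega))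
  by_cases h10 : i < 1408
  · exact List.all_eq_true.1 sym_ok10 i (List.mem_range'_1.2 (by omega))
  by_cases h11 : i < 1536
  · exact List.all_eq_true.1 sym_ok11 i (List.mem_range'_1.2 (by omega))
  by_cases h12 : i < 1664
  · exact List.all_eq_true.1 sym_ok12 i (List.mem_range'_1.2 (by omega))
  exact List.all_eq_true.1 sym_ok13 i (List.mem_range'_1.2 (by omega))

theorem root_ok : symTLen - 1 < symTLen ∧ lstT (symT.get (symTLen - 1)).nS = ord ∧
    (symT.get (symTLen - 1)).nN = 0 := by decide +kernel

end H52.E6Inv.Data
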