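import Cfsg.Agent.H52.E6Invol.Sound
import Cfsg.Agent.H52.E6Invol.DataCheck
import Cfsg.Agent.H21.Invol.E6Rank

/-!
²E₆(q), `q` even, has exactly three classes of involutions.
-/

set_option autoImplicit false
set_option linter.unusedSectionVars false
set_option maxRecDepth 20000
set_option maxHeartbeats 1000000

namespace H52.E6Inv

open Cfsg.Lie H52 H21.Invol

/-- The representatives in the other order. -/
def repsUp : List (List ℕ) := [[71], [66, 68], [55, 65, 67]]

theorem repsUp_eq : H21.Invol.E6.reps = repsUp := by decide +kernel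

theorem reps_table : ∀ k : Fin 3, ord.filter (fun r => (Data.reps.getD k.val []).contains r) = Data.reps.getD k.val [] ∧
    (∀ r ∈ ord, (Data.reps.getD k.val []).contains (rho r) = (Data.reps.getD k.val []).contains r) ∧
    pushes chevE6 E6.tab fuel (onesW (Data.reps.getD k.val [])) [] = some (onesW (repsUp.getD k.val [])) := by
  decide +kernel

theorem repsUp_mem : ∀ k : Fin 3, repsUp.getD k.val [] ∈ repsUp ∧ Data.reps.getD k.val [] ∈ Data.reps := by
  decide +kernel

theorem repsUp_inj : ∀ k l : Fin 3, repsUp.getD k.val [] = repsUp.getD l.val [] → k = l := by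
  decide +kernel

theorem reps_cases : ∀ L ∈ Data.reps, ∃ k : Fin 3, L = Data.reps.getD k.val [] := by
  decide +kernel

theorem index_odd {Q g g' I : ℕ} (h : g * (Q * I) = Q * g') (hQ : Q ≠ 0) (hodd : Odd g') : ¬ 2 ∣ I := by
  rw [mul_left_comm] at h
  have h' : g * I = g' := Nat.eq_of_mul_eq_mul_left (Nat.pos_of_ne_zero hQ) h
  rw [← h', Nat.odd_mul] at hodd
  rw [← even_iff_two_dvd, Nat.not_even_iff_odd]
  exact hodd.2

variable {F : Type*} [Field F] [Fintype F] [CharP F 2] {q : ℕ}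

theorem isPrimePow_q (hK : Fintype.card F = q ^ 2) : IsPrimePow q := by
  obtain ⟨n, -, hn⟩ := FiniteField.card F 2
  obtain ⟨i, -, hi⟩ := (Nat.dvd_prime_pow Nat.prime_two).1
    (show q ∣ 2 ^ (n : ℕ) by rw [← hn, hK]; exact dvd_pow_self q (by norm_num))
  refine hi ▸ Nat.prime_two.isPrimePow.pow fun h0 => ?_
  have h1 := Fintype.one_lt_card (α := F)
  rw [hK, hi, h0] at h1
  simp at h1

theorem card_classes (hK : Fintype.card F = q ^ 2) :
    (ConjClasses.mk '' {g : ↥(twistedE6 F q) | orderOf g = 2}).ncard = 3 := by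
  classical
  haveI : Fact (Nat.Prime 2) := ⟨Nat.prime_two⟩
  have hq := isPrimePow_q (F := F) hK
  obtain ⟨i, hi0, hi⟩ := exists_exp hq hK
  obtain ⟨C⟩ : Nonempty (H54.Ctx chevE6) := H54.exists_ctx (by simp)
  let G := twistedE6 F q
  let rep : Fin 3 → GL chevE6.Idx F := fun k => prodRt chevE6 (Data.reps.getD k.val []) fun _ => 1
  have hrepUp : ∀ k, rep k = prodRt chevE6 (repsUp.getD k.val []) fun _ => 1 := fun k =>
    prodRt_eq_of_pushes C.hC E6.tab_ok (reps_table k).2.2
  have hmem : ∀ k, rep k ∈ G := by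
    intro k
    obtain ⟨h1, h2, -⟩ := reps_table k
    set L := Data.reps.getD k.val [] with hL
    let a : ℕ → F := fun r => if L.contains r then 1 else 0
    have htw : Tw q a := fun r hr => by
      simp only [a, h2 r hr]
      split_ifs
      · rw [one_pow]
      · rw [powq_zero hq hK]
    have := elt_mem hq hK htw
    rw [← elt_eq_prodRt (fun r => L.contains r) (fun r _ h => if_neg (Bool.eq_false_iff.1 h)), h1] at this
    rw [show rep k = prodRt chevE6 L a from prodRt_congr fun r hr => (if_pos (List.contains_iff_mem.2 hr)).symm]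
    exact this
  let R : Fin 3 → ↥G := fun k => ⟨rep k, hmem k⟩
  have hord : ∀ k, orderOf (R k) = 2 := fun k => by
    show orderOf (⟨rep k, hmem k⟩ : ↥G) = 2
    rw [Subgroup.orderOf_mk, hrepUp]
    obtain ⟨a, b, c⟩ := E6.reps_ok _ (repsUp_eq ▸ (repsUp_mem k).1)
    exact orderOf_prodRt C E6.tab_ok a b c
  have hsep : ∀ k l, ConjClasses.mk (R k) = ConjClasses.mk (R l) → k = l := by
    intro k l h
    by_contra hne
    obtain ⟨c, hc⟩ := isConj_iff.1 (ConjClasses.mk_eq_mk_iff_isConj.1 h)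
    have hc' := congrArg Subtype.val hc
    simp only [Subgroup.coe_mul, Subgroup.coe_inv, R] at hc'
    rw [hrepUp, hrepUp] at hc'
    exact H21.Invol.sep_of_certs C E6.rootTorus_ok E6.certs_ok E6.masks_ok E6.certs_cover
      _ (repsUp_eq ▸ (repsUp_mem k).1) _ (repsUp_eq ▸ (repsUp_mem l).1) (fun e => hne (repsUp_inj k l e))
      c.1 (H53.E6T.twisted_le q c.2) hc'
  have himg : ConjClasses.mk '' {g : ↥G | orderOf g = 2} = Set.range fun k => ConjClasses.mk (R k) := by
    refine Set.Subset.antisymm ?_ ?_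
    swap
    · rintro _ ⟨k, rfl⟩
      exact ⟨R k, hord k, rfl⟩
    rintro _ ⟨g, hg, rfl⟩
    replace hg : orderOf g = 2 := hg
    set U : Subgroup ↥G := (chevE6.posUnipotent F ⊓ G).subgroupOf G
    have hUc : Nat.card U = q ^ 36 := by
      rw [← H53.E6T.card_U hq hK]
      exact Nat.card_congr (Subgroup.subgroupOfEquivOfLe inf_le_right).toEquiv
    have hUp : IsPGroup 2 U := IsPGroup.of_card (n := i * 36) (by rw [hUc, hi, pow_mul])
    have he : ∀ m, 0 < m → Even (q ^ m) := fun m hm =>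
      Nat.even_pow.2 ⟨hi ▸ Nat.even_pow.2 ⟨even_two, hi0.ne'⟩, hm.ne'⟩
    have hodd : ∀ m, 0 < m → Odd (q ^ m - 1) ∧ Odd (q ^ m + 1) := fun m hm =>
      ⟨Nat.Even.sub_odd (Nat.one_le_pow _ _ hq.pos) (he m hm) odd_one, (he m hm).add_one⟩
    have hidx : ¬ 2 ∣ U.index := by
      refine index_odd (g := Nat.gcd 3 (q + 1)) (Q := q ^ 36)
        (g' := (q ^ 2 - 1) * (q ^ 5 + 1) * (q ^ 6 - 1) * (q ^ 8 - 1) * (q ^ 9 + 1) * (q ^ 12 - 1)) ?_
        (pow_ne_zero _ hq.pos.ne')
        ((((((hodd 2 (by norm_num)).1.mul (hodd 5 (by norm_num)).2).mul (hodd 6 (by norm_num)).1).mul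
          (hodd 8 (by norm_num)).1).mul (hodd 9 (by norm_num)).2).mul (hodd 12 (by norm_num)).1)
      rw [← hUc, U.card_mul_index, H52.e6t_card hq hK, hUc]
      ring
    obtain ⟨Q, hQ⟩ := (IsPGroup.of_card (n := 1)
      (by rw [Nat.card_zpowers, hg]; rfl) : IsPGroup 2 ↥(Subgroup.zpowers g)).exists_le_sylow
    obtain ⟨c, hc⟩ := MulAction.exists_smul_eq ↥G (hUp.toSylow hidx) Q
    have h1 : g ∈ ((c • hUp.toSylow hidx : Sylow 2 ↥G) : Subgroup ↥G) := by
      rw [hc]; exact hQ (Subgroup.mem_zpowers g)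
    rw [Sylow.coe_subgroup_smul, Subgroup.mem_smul_pointwise_iff_exists] at h1
    obtain ⟨u, hu, hue⟩ := h1
    have hconj : IsConj u g := isConj_iff.2 ⟨c, hue⟩
    have hu' : (u : GL chevE6.Idx F) ∈ chevE6.posUnipotent F :=
      (Subgroup.mem_inf.1 (Subgroup.mem_subgroupOf.1 hu)).1
    have hg2 : g * g = 1 := by rw [← pow_two, ← hg]; exact pow_orderOf_eq_one g
    obtain ⟨d, hd⟩ := isConj_iff.1 hconj.symm
    have hu2 : u * u = 1 := by
      rw [← hd, show d * g * d⁻¹ * (d * g * d⁻¹) = d * (g * g) * d⁻¹ by group, hg2]; group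
    obtain ⟨a, ha⟩ := exists_elt hu'
    obtain ⟨hroot, hS, hN0⟩ := Data.root_ok
    have hg' : prodRt chevE6 (lstT (Data.symT.get (Data.symTLen - 1)).nS) a = (u : GL chevE6.Idx F) := by
      rw [hS]; exact ha.symm
    have := symbolic_sound hq hK Data.num_ok Data.sym_ok _ hroot a
      (tw_of_mem hq hK (by rw [← ha]; exact u.2)) (fun x _ hx => by simp [hN0] at hx)
      (by rw [hg']; exact u.2) (by rw [hg']; exact congrArg Subtype.val hu2)
    rw [hg'] at this
    rcases this with h | ⟨h, hh, L, hL, hrep⟩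
    · have : u = 1 := Subtype.ext h
      rw [this] at hconj
      rw [isConj_one_right.1 hconj] at hg
      simp at hg
    · obtain ⟨k, rfl⟩ := reps_cases L hL
      exact ⟨k, ConjClasses.mk_eq_mk_iff_isConj.2
        ((isConj_iff.2 ⟨⟨h, hh⟩, Subtype.ext hrep⟩).symm.trans hconj)⟩
  show (ConjClasses.mk '' {g : ↥G | orderOf g = 2}).ncard = 3
  rw [himg, Set.ncard_range_of_injective fun k l h => hsep k l h]
  simp

end H52.E6Inv
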