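import Cfsg.Agent.H52.E6Invol.Check

/-!
Soundness of the certificates for the involutions of ²E₆(q), `q` even.
-/

set_option autoImplicit false
set_option linter.unusedSectionVars false
set_option maxRecDepth 8000
set_option maxHeartbeats 1000000

namespace H52.E6Inv

open Cfsg.Lie H52 H21.Invol

theorem key_table : ∀ s ∈ ord, key s ≤ key (rho s) → rho s ≠ s → key s < key (rho s) := by
  decide +kernel

theorem cjM_def (m : Mon) : cjM m = (m.map rho).foldr mins [] := rfl

theorem orbW_table : ∀ k : Fin 4, orbW k.val = (H53.E6T.spec.word k).map fun i => i.val := by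
  decide +kernel

theorem orbW_lt : ∀ k < 4, ∀ i ∈ orbW k, i < 6 := by decide +kernel

theorem reflect_lt : ∀ i < 6, ∀ r < 72, chevE6.reflectRoot i r < 72 := by decide +kernel

theorem τi_table : ∀ i : Fin chevE6.rank,
    (e6Fold.τi i).val = ([5, 1, 4, 3, 2, 0] : List ℕ).getD i.val 0 := by
  decide +kernel

theorem lstT_sub {m r : ℕ} (h : r ∈ lstT m) : r ∈ ord := (List.mem_filter.1 h).1

theorem lstT_lt {m r : ℕ} (h : r ∈ lstT m) : r < 72 := (ord_table r (lstT_sub h)).2.1

theorem varW_lt {m : ℕ} : ∀ p ∈ varW (lstT m), p.1 < 72 := fun p hp => by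
  obtain ⟨r, hr, rfl⟩ := List.mem_map.1 hp
  exact lstT_lt hr

theorem onesW_lt {m : ℕ} : ∀ p ∈ onesW (lstT m), p.1 < 72 := fun p hp => by
  obtain ⟨r, hr, rfl⟩ := List.mem_map.1 hp
  exact lstT_lt hr

variable {F : Type*} [Field F] [Fintype F] [CharP F 2]

theorem elt_zero : elt (fun _ => (0 : F)) = 1 := by
  have := prodRt_filter_of ord (fun _ => false) (fun _ => (0 : F)) fun _ _ _ => rfl
  rw [elt, ← this]
  simp [prodRt, wordRt]

theorem elt_eq_prodRt {a : ℕ → F} (p : ℕ → Bool) (h : ∀ r ∈ ord, p r = false → a r = 0) :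
    prodRt chevE6 (ord.filter p) a = elt a :=
  prodRt_filter_of ord p a h

theorem prodRt_congr {L : List ℕ} {a b : ℕ → F} (h : ∀ r ∈ L, a r = b r) :
    prodRt chevE6 L a = prodRt chevE6 L b :=
  congrArg (wordRt chevE6) (List.map_congr_left fun r hr => by rw [h r hr])

theorem evW_reverse (ρ : ℕ → F) (w : Wd) : evW chevE6 ρ w.reverse = (evW chevE6 ρ w)⁻¹ := by
  induction w with
  | nil => simp [evW_nil]
  | cons p w ih =>
    rw [List.reverse_cons, evW_append, ih, evW_cons, evW_cons, evW_nil, mul_one, mul_inv_rev,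
      inv_eq_of_mul_eq_one_left (rt_self checkedE6 p.1 _)]

theorem evW_conjBy (ρ : ℕ → F) (x w : Wd) :
    evW chevE6 ρ (conjBy x w) = evW chevE6 ρ x * evW chevE6 ρ w * (evW chevE6 ρ x)⁻¹ := by
  rw [conjBy, evW_append, evW_append, evW_reverse, mul_assoc]

theorem evM_foldr_mins (ρ : ℕ → F) (m : Mon) : evM ρ (m.foldr mins []) = evM ρ m := by
  induction m with
  | nil => rfl
  | cons v m ih => rw [List.foldr_cons, evM_mins, ih]; simp [evM]

theorem evP_single (ρ : ℕ → F) (m : Mon) : evP ρ [m] = evM ρ m := by simp [evP]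

theorem evM_ne (N : ℕ) (a : ℕ → F) {m : Mon} (hm : knownT N m = true)
    (hN : ∀ x ∈ ord, N.testBit x = true → a x ≠ 0) : evM a m ≠ 0 := by
  simp only [knownT, List.all_eq_true, Bool.and_eq_true, List.contains_iff_mem] at hm
  refine List.prod_ne_zero fun h0 => ?_
  obtain ⟨v, hv, he⟩ := List.mem_map.1 h0
  exact hN v (hm v hv).1 (hm v hv).2 he

theorem evP_ne (N : ℕ) (a : ℕ → F) {P : Pol} (hm : knownPT N P = true)
    (hN : ∀ x ∈ ord, N.testBit x = true → a x ≠ 0) : evP a P ≠ 0 := by
  match P, hm with
  | [m], hm => rw [evP_single]; exact evM_ne N a hm hN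

/-- The valuation with the parameters `c`, `c^q`. -/
def val (q : ℕ) (a : ℕ → F) (c : F) : ℕ → F :=
  fun v => if v = 72 then c else if v = 73 then c ^ q else a v

theorem val_of_lt {q : ℕ} {a : ℕ → F} {c : F} {v : ℕ} (h : v < 72) : val q a c v = a v := by
  rw [val, if_neg (by omega), if_neg (by omega)]

theorem evM_val (q : ℕ) (a : ℕ → F) (c : F) (m : Mon) :
    evM (val q a c) m = c ^ m.count 72 * (c ^ q) ^ m.count 73 * evM a (strip m) := by
  induction m with
  | nil => simp [evM, strip]
  | cons v m ih =>
    simp only [evM, strip, List.map_cons, List.prod_cons] at ih ⊢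
    rw [ih]
    by_cases h1 : v = 72
    · subst h1
      rw [List.filter_cons_of_neg (by simp), List.count_cons_self, List.count_cons_of_ne (by decide)]
      simp [val, pow_succ]
      ring
    by_cases h2 : v = 73
    · subst h2
      rw [List.filter_cons_of_neg (by simp), List.count_cons_self, List.count_cons_of_ne (by decide)]
      simp [val, pow_succ]
      ring
    · rw [List.filter_cons_of_pos (by simp [h1, h2]), List.count_cons_of_ne h1, List.count_cons_of_ne h2,
        List.map_cons, List.prod_cons]
      simp [val, h1, h2]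
      ring

theorem evP_split (q : ℕ) (a : ℕ → F) (c : F) (P : Pol) :
    evP (val q a c) P = evP (val q a c) (parT P) + evP a (restT P) := by
  induction P with
  | nil => simp [evP, parT, restT]
  | cons m P ih =>
    simp only [parT, restT, evP] at ih ⊢
    by_cases h : (m.contains 72 || m.contains 73) = true
    · rw [List.filter_cons_of_pos (by exact h), List.filter_cons_of_neg (by rw [h]; simp)]
      simp only [List.map_cons, List.sum_cons]
      rw [ih, add_assoc]
    · rw [List.filter_cons_of_neg (by exact h), List.filter_cons_of_pos (by simpa using h)]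
      simp only [List.map_cons, List.sum_cons]
      rw [ih]
      have : evM (val q a c) m = evM a m := congrArg List.prod (List.map_congr_left fun v hv => by
        simp only [Bool.or_eq_true, List.contains_iff_mem, not_or] at h
        rw [val, if_neg (fun e : v = 72 => h.1 (e ▸ hv)), if_neg (fun e : v = 73 => h.2 (e ▸ hv))])
      rw [this]
      ring

theorem exists_pow_eq {k : ℕ} (hk : k = 1 ∨ k = 2) (b : F) : ∃ c : F, c ^ k = b := by
  rcases hk with rfl | rfl
  · exact ⟨b, pow_one b⟩
  · obtain ⟨c, hc⟩ := FiniteField.isSquare_of_char_two (ringChar.eq F 2) b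
    exact ⟨c, by rw [sq, ← hc]⟩

theorem pow_root_inj {k : ℕ} (hk : k = 1 ∨ k = 2) {x y : F} (h : x ^ k = y ^ k) : x = y := by
  rcases hk with rfl | rfl
  · simpa using h
  · exact CharTwo.sq_injective h

variable {q : ℕ} (hq : IsPrimePow q) (hK : Fintype.card F = q ^ 2)
include hq hK

omit hK in
theorem div_powq {x y : F} (hx : x ^ q = x) (hy : y ^ q = y) : (x / y) ^ q = x / y := by
  rw [div_pow, hx, hy]

theorem exists_trace_one : ∃ w : F, w + w ^ q = 1 := by
  obtain ⟨d, hd⟩ : ∃ d : F, d ^ q ≠ d := by
    by_contra h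
    push Not at h
    have h1 := H53.card_pow_fixed hq.one_lt hK
    rw [Nat.card_congr (Equiv.subtypeUnivEquiv h), Nat.card_eq_fintype_card, hK] at h1
    have := hq.one_lt
    nlinarith
  have hs : d + d ^ q ≠ 0 := fun h => hd (CharTwo.add_eq_zero.1 h).symm
  refine ⟨d / (d + d ^ q), ?_⟩
  rw [div_pow, add_powq hq hK, powq_powq hq hK, add_comm (d ^ q) d, ← add_div, div_self hs]

theorem evP_powq (a : ℕ → F) (P : Pol) : evP (fun v => a v ^ q) P = evP a P ^ q := by
  induction P with
  | nil => simp [evP, powq_zero hq hK]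
  | cons m P ih =>
    simp only [evP, List.map_cons, List.sum_cons] at ih ⊢
    rw [add_powq hq hK, ih]
    congr 1
    induction m with
    | nil => simp [evM]
    | cons v m ihm =>
      simp only [evM, List.map_cons, List.prod_cons] at ihm ⊢
      rw [ihm, mul_pow]

omit hq hK in
theorem evM_cjM {a : ℕ → F} (ha : Tw q a) {m : Mon} (hm : ∀ v ∈ m, v ∈ ord) :
    evM a (cjM m) = evM (fun v => a v ^ q) m := by
  rw [cjM_def, evM_foldr_mins, evM, evM, List.map_map]
  exact congrArg List.prod (List.map_congr_left fun v hv => ha v (hm v hv))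

omit hq hK in
theorem evP_cjP {a : ℕ → F} (ha : Tw q a) {P : Pol} (hm : ∀ p ∈ P, ∀ v ∈ p, v ∈ ord) :
    evP a (cjP P) = evP (fun v => a v ^ q) P := by
  rw [cjP, evP, evP, List.map_map]
  exact congrArg List.sum (List.map_congr_left fun p hp => evM_cjM ha (hm p hp))

/-- Conjugate in the twisted group to one of the representatives. -/
def RepT (q : ℕ) (reps : List (List ℕ)) (g : GL chevE6.Idx F) : Prop :=
  ∃ h ∈ twistedE6 F q, ∃ L ∈ reps, h * g * h⁻¹ = prodRt chevE6 L fun _ => 1

omit hq hK in
theorem RepT.of_conj {reps : List (List ℕ)} {g h : GL chevE6.Idx F} (hh : h ∈ twistedE6 F q)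
    (hr : RepT q reps (h * g * h⁻¹)) : RepT q reps g := by
  obtain ⟨k, hk, L, hL, e⟩ := hr
  exact ⟨k * h, mul_mem hk hh, L, hL, by simpa [mul_assoc] using e⟩

/-- The parameters of a class give an element of the twisted group. -/
theorem param_mem {s : ℕ} (hs : s ∈ ord) (hkey : key s ≤ key (rho s)) {c : F}
    (hc : rho s = s → c ^ q = c) :
    (if rho s = s then rt chevE6 s c else rt chevE6 s c * rt chevE6 (rho s) (c ^ q)) ∈ twistedE6 F q := by
  obtain ⟨-, hs72, hs'⟩ := ord_table s hs
  have hrr := (rho_table s hs72).2.1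
  set b : ℕ → F := fun r => if r = s then c else if r = rho s then c ^ q else 0 with hb
  have htw : Tw q b := by
    intro r hr
    obtain ⟨-, hr72, -⟩ := ord_table r hr
    by_cases h1 : r = s
    · subst h1
      by_cases h2 : rho r = r
      · simp [hb, h2, hc h2]
      · simp [hb, h2]
    by_cases h2 : r = rho s
    · subst h2
      simp [hb, hrr, h1, powq_powq hq hK]
    · have e1 : rho r ≠ s := fun h => h2 (by rw [← h, (rho_table r hr72).2.1])
      have e2 : rho r ≠ rho s := fun h => h1 (by
        rw [← (rho_table r hr72).2.1, h, hrr])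
      simp only [hb, if_neg h1, if_neg h2, if_neg e1, if_neg e2, powq_zero hq hK]
  have := elt_mem hq hK htw
  rw [← elt_eq_prodRt (fun r => r == s || r == rho s) (fun r _ h => by
    simp only [Bool.or_eq_false_iff, beq_eq_false_iff_ne, ne_eq] at h
    simp [hb, h.1, h.2]), cls_of_mem s hs] at this
  by_cases h : rho s = s
  · rw [if_pos h]
    rw [if_neg (by rw [h]; exact lt_irrefl _), if_pos h] at this
    simpa [prodRt, wordRt, hb] using this
  · rw [if_neg h]
    rw [if_pos (key_table s hs hkey h)] at this
    simpa [prodRt, wordRt, hb, h] using this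

theorem evW_parW_mem {s : ℕ} (hs : s ∈ ord) (hkey : key s ≤ key (rho s)) (a : ℕ → F) {c : F}
    (hc : rho s = s → c ^ q = c) : evW chevE6 (val q a c) (parW s) ∈ twistedE6 F q := by
  have e : evW chevE6 (val q a c) (parW s) =
      if rho s = s then rt chevE6 s c else rt chevE6 s c * rt chevE6 (rho s) (c ^ q) := by
    rw [parW]
    split_ifs with h <;> simp [evW, wordRt, evP, evM, val]
  rw [e]
  exact param_mem hq hK hs hkey hc

omit hq hK in
theorem parW_lt {s : ℕ} (hs : s ∈ ord) : ∀ p ∈ parW s, p.1 < 72 := by
  obtain ⟨-, h2, h3⟩ := ord_table s hs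
  have := (ord_table _ h3).2.1
  intro p hp
  rw [parW] at hp
  split_ifs at hp with h
  · simp only [List.mem_singleton] at hp
    rw [hp]; exact h2
  · simp only [List.mem_cons, List.not_mem_nil, or_false] at hp
    rcases hp with rfl | rfl
    · exact h2
    · exact this

omit hq hK in
theorem conjBy_lt {x w : Wd} (hx : ∀ p ∈ x, p.1 < 72) (hw : ∀ p ∈ w, p.1 < 72) :
    ∀ p ∈ conjBy x w, p.1 < 72 := fun p hp => by
  simp only [conjBy, List.mem_append, List.mem_reverse] at hp
  rcases hp with h | h | h
  exacts [hx p h, hw p h, hx p h]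

omit hq hK in
/-- A collected word has the coordinates given by its coefficients. -/
theorem collected (ρ : ℕ → F) {w L : Wd} (h : push6 w = some L) (hw : ∀ p ∈ w, p.1 < 72)
    (hnf : isNFK ord L = true) : evW chevE6 ρ w = elt fun r => evP ρ (coef L r) := by
  rw [← evW6 ρ h hw, evW_isNFK checkedE6 ρ hnf]
  rfl

omit hq hK in
/-- The coordinates of the square vanish. -/
theorem square_coef (m : ℕ) (a : ℕ → F) {L : Wd} (h : push6 (varW (lstT m) ++ varW (lstT m)) = some L)
    (hnf : isNFK ord L = true) (hsq : prodRt chevE6 (lstT m) a * prodRt chevE6 (lstT m) a = 1) :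
    ∀ r ∈ ord, evP a (coef L r) = 0 := by
  have := collected a h (fun p hp => by
    rcases List.mem_append.1 hp with hp | hp <;> exact varW_lt p hp) hnf
  rw [evW_append, evW_varW, hsq, ← elt_zero] at this
  exact fun r hr => (elt_inj this r hr).symm

omit hq hK in
theorem tr_vals (a : ℕ → F) {N : ℕ} {m m' : Mon} (h : trPair N m m' = true)
    (hN : ∀ x ∈ ord, N.testBit x = true → a x ≠ 0) :
    evM a (strip m) ≠ 0 ∧ ∀ c : F, evM (val q a c) m + evM (val q a c) m' =
      c * evM a (strip m) + c ^ q * evM a (strip m') := by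
  simp only [trPair, Bool.and_eq_true, beq_iff_eq] at h
  obtain ⟨⟨⟨⟨⟨h1, h2⟩, h3⟩, h4⟩, h5⟩, -⟩ := h
  refine ⟨evM_ne N a h5 hN, fun c => ?_⟩
  rw [evM_val, evM_val, h1, h2, h3, h4]
  ring

/-- The pivot equation is soluble. -/
theorem exists_param {kd : Kind} {N m s u : ℕ} {L : Wd} (h : chkKind kd N m s u (coef L u) = true)
    (hs : s ∈ ord) (hu : u ∈ ord) {a : ℕ → F} (ha : Tw q a)
    (hN : ∀ x ∈ ord, N.testBit x = true → a x ≠ 0)
    (hsq : prodRt chevE6 (lstT m) a * prodRt chevE6 (lstT m) a = 1)
    (htw : ∀ c : F, (rho s = s → c ^ q = c) → Tw q fun r => evP (val q a c) (coef L r)) :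
    ∃ c : F, (rho s = s → c ^ q = c) ∧ evP (val q a c) (coef L u) = 0 := by
  set P := coef L u with hP
  set R := evP a (restT P) with hR
  have h0 : (0 : F) ^ q = 0 := powq_zero hq hK
  have hfix : rho u = u → ∀ c : F, (rho s = s → c ^ q = c) →
      (evP (val q a c) (parT P) + R) ^ q = evP (val q a c) (parT P) + R := by
    intro hu' c hc
    have := htw c hc u hu
    simp only [hu', ← hP] at this
    rw [evP_split, ← hR] at this
    exact this.symm
  -- the pivot with a single monomial in the fixed parameter
  cases kd with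
  | ff =>
    simp only [chkKind, Bool.and_eq_true, beq_iff_eq] at h
    obtain ⟨⟨hs', hu'⟩, h⟩ := h
    split at h
    · next mm hm =>
      simp only [Bool.and_eq_true, Bool.or_eq_true, beq_iff_eq] at h
      obtain ⟨⟨h73, hk⟩, hkn⟩ := h
      set β := evM a (strip mm) with hβ
      have hval : ∀ c : F, evP (val q a c) (parT P) = c ^ mm.count 72 * β := fun c => by
        rw [hm, evP_single, evM_val, h73, pow_zero, mul_one]
      have hR' : R ^ q = R := by
        have := hfix hu' 0 fun _ => h0
        rwa [hval, zero_pow (by omega), zero_mul, zero_add] at this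
      have hβ' : β ^ q = β := by
        have := hfix hu' 1 fun _ => one_pow q
        rw [hval, one_pow, one_mul, add_powq hq hK, hR'] at this
        exact add_right_cancel this
      obtain ⟨c, hc⟩ := exists_pow_eq hk (R / β)
      have hcq : c ^ q = c := pow_root_inj hk (by
        rw [← pow_mul, mul_comm, pow_mul, hc, div_powq hq hR' hβ'])
      refine ⟨c, fun _ => hcq, ?_⟩
      rw [evP_split, hval, hc, div_mul_cancel₀ _ (evM_ne N a hkn hN), ← hR, CharTwo.add_self_eq_zero]
    · simp at h
  | pp b =>
    simp only [chkKind, Bool.and_eq_true, bne_iff_ne, ne_eq] at h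
    obtain ⟨⟨hs', -⟩, h⟩ := h
    split at h
    · next mm hm =>
      simp only [Bool.and_eq_true, Bool.or_eq_true, beq_iff_eq] at h
      obtain ⟨⟨hz, hk⟩, hkn⟩ := h
      set β := evM a (strip mm) with hβ
      have hβ0 : β ≠ 0 := evM_ne N a hkn hN
      cases b
      · simp only [Bool.false_eq_true, if_false] at hz hk
        obtain ⟨c, hc⟩ := exists_pow_eq hk (R / β)
        refine ⟨c, fun e => absurd e hs', ?_⟩
        rw [evP_split, hm, evP_single, evM_val, hz, pow_zero, mul_one, hc, ← hβ,
          div_mul_cancel₀ _ hβ0, ← hR, CharTwo.add_self_eq_zero]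
      · simp only [if_true] at hz hk
        obtain ⟨d, hd⟩ := exists_pow_eq hk (R / β)
        refine ⟨d ^ q, fun e => absurd e hs', ?_⟩
        rw [evP_split, hm, evP_single, evM_val, hz, pow_zero, one_mul, powq_powq hq hK, hd, ← hβ,
          div_mul_cancel₀ _ hβ0, ← hR, CharTwo.add_self_eq_zero]
    · simp at h
  | norm =>
    simp only [chkKind, Bool.and_eq_true, bne_iff_ne, ne_eq, beq_iff_eq] at h
    obtain ⟨⟨hs', hu'⟩, h⟩ := h
    split at h
    · next mm hm =>
      simp only [Bool.and_eq_true, beq_iff_eq] at h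
      obtain ⟨⟨h72, h73⟩, hkn⟩ := h
      set β := evM a (strip mm) with hβ
      have hval : ∀ c : F, evP (val q a c) (parT P) = c * c ^ q * β := fun c => by
        rw [hm, evP_single, evM_val, h72, h73, pow_one, pow_one]
      have hR' : R ^ q = R := by
        have := hfix hu' 0 fun _ => h0
        rwa [hval, zero_mul, zero_mul, zero_add] at this
      have hβ' : β ^ q = β := by
        have := hfix hu' 1 fun _ => one_pow q
        rw [hval, one_pow, one_mul, one_mul, add_powq hq hK, hR'] at this
        exact add_right_cancel this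
      obtain ⟨c, hc⟩ := exists_pow_eq (Or.inr rfl) (R / β)
      have hcq : c ^ q = c := pow_root_inj (Or.inr rfl) (by
        rw [← pow_mul, mul_comm, pow_mul, hc, div_powq hq hR' hβ'])
      refine ⟨c, fun e => absurd e hs', ?_⟩
      rw [evP_split, hval, hcq, ← sq, hc, div_mul_cancel₀ _ (evM_ne N a hkn hN), ← hR,
        CharTwo.add_self_eq_zero]
    · simp at h
  | tr =>
    simp only [chkKind, Bool.and_eq_true, bne_iff_ne, ne_eq, beq_iff_eq] at h
    obtain ⟨⟨hs', hu'⟩, h⟩ := h
    split at h
    · next mm mm' hm =>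
      obtain ⟨β, β', hβ, hval⟩ : ∃ β β' : F, β ≠ 0 ∧
          ∀ c : F, evP (val q a c) (parT P) = c * β + c ^ q * β' := by
        have e : ∀ c : F, evP (val q a c) (parT P) = evM (val q a c) mm + evM (val q a c) mm' := fun c => by
          rw [hm]; simp [evP]
        rcases Bool.or_eq_true_iff.1 h with h | h
        · obtain ⟨h1, h2⟩ := tr_vals (q := q) a h hN
          exact ⟨_, _, h1, fun c => (e c).trans (h2 c)⟩
        · obtain ⟨h1, h2⟩ := tr_vals (q := q) a h hN
          exact ⟨_, _, h1, fun c => (e c).trans ((add_comm _ _).trans (h2 c))⟩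
      have hR' : R ^ q = R := by
        have := hfix hu' 0 fun _ => h0
        rwa [hval, h0, zero_mul, zero_mul, zero_add, zero_add] at this
      have he : ∀ c : F, (c * β + c ^ q * β') ^ q = c * β + c ^ q * β' := fun c => by
        have := hfix hu' c fun e => absurd e hs'
        rw [hval, add_powq hq hK, hR'] at this
        exact add_right_cancel this
      have hβ' : β' = β ^ q := by
        obtain ⟨d, hd⟩ := exists_trace_one hq hK
        have e1 := he 1
        simp only [one_mul, one_pow, add_powq hq hK] at e1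
        have e2 := he d
        simp only [add_powq hq hK, mul_pow, powq_powq hq hK] at e2
        have h2 : (2 : F) = 0 := CharTwo.two_eq_zero
        linear_combination -e2 + d * e1 - (β' - β ^ q) * hd + (β' - β ^ q) * d * h2
      obtain ⟨w, hw⟩ := exists_trace_one hq hK
      refine ⟨R * w / β, fun e => absurd e hs', ?_⟩
      rw [evP_split, hval, hβ', div_mul_cancel₀ _ hβ, div_pow, mul_pow, hR',
        div_mul_cancel₀ _ (pow_ne_zero q hβ), ← mul_add, hw, mul_one, ← hR, CharTwo.add_self_eq_zero]
    · simp at h
  | pf u2 k1 k2 =>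
    simp only [chkKind, Bool.and_eq_true, bne_iff_ne, ne_eq, beq_iff_eq] at h
    obtain ⟨⟨hs', -⟩, h⟩ := h
    split at h
    · next mm hm =>
      simp only [Bool.and_eq_true, Bool.or_eq_true, beq_iff_eq, List.all_eq_true, List.contains_iff_mem] at h
      obtain ⟨⟨⟨⟨h73, hk⟩, hkn⟩, hrest⟩, hX, hd⟩ := h
      set β := evM a (strip mm) with hβ
      have hβ0 : β ≠ 0 := evM_ne N a hkn hN
      have hmord : ∀ v ∈ strip mm, v ∈ ord := fun v hv => by
        have := hkn
        simp only [knownT, List.all_eq_true, Bool.and_eq_true, List.contains_iff_mem] at this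
        exact (this v hv).1
      set X := pmul (restT P) [cjM (strip mm)]
      have h2 : (2 : F) = 0 := CharTwo.two_eq_zero
      have eX : evP a X = R * β ^ q := by
        rw [evP_pmul h2, evP_single, evM_cjM ha hmord, ← evP_single (fun v => a v ^ q), evP_powq hq hK,
          evP_single]
      have ed : evP a (padd X (cjP X)) = R * β ^ q + (R * β ^ q) ^ q := by
        rw [evP_padd h2, evP_cjP ha hX, evP_powq hq hK, eX]
      have hXq : (R * β ^ q) ^ q = R * β ^ q := by
        refine (CharTwo.add_eq_zero.1 ?_).symm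
        rw [← ed]
        rcases hd with hd | ⟨⟨hk1, hu2⟩, hd⟩
        · rw [List.isEmpty_iff.1 hd]; simp [evP]
        · split at hd
          · next L2 hL2 =>
            simp only [Bool.and_eq_true] at hd
            obtain ⟨hnf2, hd⟩ := hd
            have := congrArg (evP a) (List.isEmpty_iff.1 hd)
            rw [evP_padd h2, evP_pmul h2, evP_pmul h2, square_coef m a hL2 hnf2 hsq u2 hu2, zero_mul,
              add_zero, evP_single] at this
            rw [show evP a ([] : Pol) = 0 by simp [evP], mul_eq_zero] at this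
            exact this.resolve_right (evM_ne N a hk1 hN)
          · simp at hd
      have hb : (R / β) ^ q = R / β := by
        rw [div_pow, div_eq_div_iff (pow_ne_zero _ hβ0) hβ0]
        rw [mul_pow, powq_powq hq hK] at hXq
        exact hXq
      obtain ⟨c, hc⟩ := exists_pow_eq hk (R / β)
      have hcq : c ^ q = c := pow_root_inj hk (by
        rw [← pow_mul, mul_comm, pow_mul, hc, hb])
      refine ⟨c, fun _ => hcq, ?_⟩
      rw [evP_split, hm, evP_single, evM_val, h73, pow_zero, mul_one, hc, ← hβ,
        div_mul_cancel₀ _ hβ0, ← hR, CharTwo.add_self_eq_zero]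
    · simp at h

/-- A torus element of the twisted group scaling the coordinates to 1. -/
theorem exists_scaleT {m e : ℕ} {v : List (List ℤ)} (h : chkTorus chevE6 (lstT m) e v = true)
    (hsym : ∀ b < (lstT m).length, rho ((lstT m).getD b 0) ∈ lstT m ∧ ∀ k < 6,
      (v.getD ((lstT m).idxOf (rho ((lstT m).getD b 0))) []).getD (([5, 1, 4, 3, 2, 0] : List ℕ).getD k 0) 0 =
        (v.getD b []).getD k 0)
    {a : ℕ → F} (ha : Tw q a) (h0 : ∀ r ∈ lstT m, a r ≠ 0) :
    ∃ c : Fin chevE6.rank → Fˣ, torus chevE6 c ∈ twistedE6 F q ∧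
      ∀ r ∈ lstT m, ((∏ i : Fin chevE6.rank, c i ^ chevE6.cartan i.val r : Fˣ) : F) * a r = 1 := by
  classical
  haveI : Fact (Nat.Prime 2) := ⟨Nat.prime_two⟩
  set S := lstT m
  have hnd : S.Nodup := ord_nodup.filter _
  have hinj : ∀ x y : F, x ^ 2 ^ e = y ^ 2 ^ e → x = y := fun x y hxy =>
    (iterateFrobenius F 2 e).injective (by simpa [iterateFrobenius_def] using hxy)
  have hroot : ∀ x : F, ∃ y : F, y ^ 2 ^ e = x := fun x => by
    obtain ⟨y, hy⟩ := Finite.injective_iff_surjective.1 (iterateFrobenius F 2 e).injective x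
    exact ⟨y, by simpa [iterateFrobenius_def] using hy⟩
  choose root hroot using hroot
  have hroot0 : ∀ x : F, x ≠ 0 → root x ≠ 0 := fun x hx e0 => hx (by
    rw [← hroot x, e0, zero_pow (pow_ne_zero _ two_ne_zero)])
  let z : ℕ → Fˣ := fun r => if hr : r ∈ S then Units.mk0 (root (a r)⁻¹) (hroot0 _ (inv_ne_zero (h0 r hr))) else 1
  have hz : ∀ r ∈ S, (z r : F) ^ 2 ^ e * a r = 1 := fun r hr => by
    simp only [z, dif_pos hr, Units.val_mk0, hroot]
    exact inv_mul_cancel₀ (h0 r hr)
  let w : ℕ → ℕ → ℤ := fun r k => (v.getD (S.idxOf r) []).getD k 0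
  have hget : ∀ r ∈ S, S.idxOf r < S.length ∧ S.getD (S.idxOf r) 0 = r := fun r hr =>
    ⟨List.idxOf_lt_length_iff.2 hr, by
      rw [List.getD_eq_getElem _ _ (List.idxOf_lt_length_iff.2 hr), List.getElem_idxOf]⟩
  have hsymm : ∀ r ∈ S, rho r ∈ S ∧ ∀ k < 6,
      w (rho r) (([5, 1, 4, 3, 2, 0] : List ℕ).getD k 0) = w r k := fun r hr => by
    have := hsym _ (hget r hr).1
    rwa [(hget r hr).2] at this
  have hinvol : ∀ r ∈ S, rho (rho r) = r := fun r hr => (rho_table r (lstT_lt hr)).2.1
  have hzq : ∀ r ∈ S, z (rho r) = z r ^ q := fun r hr => by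
    refine Units.ext (hinj _ _ ?_)
    rw [Units.val_pow_eq_pow_val, ← pow_mul, mul_comm q, pow_mul]
    refine mul_right_cancel₀ (h0 (rho r) (hsymm r hr).1) ?_
    rw [hz _ (hsymm r hr).1, ha r (lstT_sub hr), ← mul_pow, hz r hr, one_pow]
  let c : Fin chevE6.rank → Fˣ := fun k => ∏ r ∈ S.toFinset, z r ^ w r k.val
  refine ⟨c, ?_, fun r hr => ?_⟩
  · obtain ⟨T, X, hf⟩ := exists_twistE6 hq hK
    rw [← twistE6_grp X hf hK]
    refine X.torusT_le_grp (X.torus_mem_torusT fun i => ?_)
    rw [hf, ← Units.val_pow_eq_pow_val]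
    refine congrArg Units.val ?_
    simp only [c, ← Finset.prod_pow]
    refine Finset.prod_nbij' rho rho ?_ ?_ ?_ ?_ ?_
    · intro r hr; simpa using (hsymm r (List.mem_toFinset.1 hr)).1
    · intro r hr; simpa using (hsymm r (List.mem_toFinset.1 hr)).1
    · intro r hr; exact hinvol r (List.mem_toFinset.1 hr)
    · intro r hr; exact hinvol r (List.mem_toFinset.1 hr)
    · intro r hr
      have hr' := List.mem_toFinset.1 hr
      have := (hsymm (rho r) (hsymm r hr').1).2 i.val i.isLt
      rw [hinvol r hr', ← τi_table i] at this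
      have e' := hzq (rho r) (hsymm r hr').1
      rw [hinvol r hr'] at e'
      rw [this, e', ← zpow_natCast _ q, ← zpow_natCast (z (rho r) ^ w (rho r) i.val) q, ← zpow_mul, ← zpow_mul,
        mul_comm]
  · have hcomb : (∏ i : Fin chevE6.rank, c i ^ chevE6.cartan i.val r) = z r ^ ((2 : ℤ) ^ e) := by
      simp only [c, ← Finset.prod_zpow, ← zpow_mul]
      rw [Finset.prod_comm, Finset.prod_eq_single r]
      · rw [prod_zpow_eq]
        congr 1
        simp only [chkTorus, List.all_eq_true, List.mem_range, beq_iff_eq] at h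
        have := h _ (hget r hr).1 _ (hget r hr).1
        rw [if_pos rfl, (hget r hr).2] at this
        rw [← this, Finset.sum_fin_eq_sum_range, ← List.sum_toFinset _ List.nodup_range, List.toFinset_range]
        exact Finset.sum_congr rfl fun k hk => by rw [dif_pos (Finset.mem_range.1 hk)]
      · intro j hj hne
        rw [prod_zpow_eq]
        convert zpow_zero (z j)
        simp only [chkTorus, List.all_eq_true, List.mem_range, beq_iff_eq] at h
        have hj' := List.mem_toFinset.1 hj
        have := h _ (hget j hj').1 _ (hget r hr).1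
        rw [if_neg (fun e' => hne (by rw [← (hget j hj').2, e', (hget r hr).2])), (hget r hr).2] at this
        rw [← this, Finset.sum_fin_eq_sum_range, ← List.sum_toFinset _ List.nodup_range, List.toFinset_range]
        exact Finset.sum_congr rfl fun k hk => by rw [dif_pos (Finset.mem_range.1 hk)]
      · simp [hr]
    rw [hcomb, show ((2 : ℤ) ^ e) = ((2 ^ e : ℕ) : ℤ) by push_cast; rfl, zpow_natCast,
      Units.val_pow_eq_pow_val]
    exact hz r hr

theorem numeric_sound {reps : List (List ℕ)} {TN : Tr NSt} {len : ℕ}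
    (hT : ∀ i < len, chkN reps TN i = true) :
    ∀ i < len, RepT (F := F) q reps (prodRt chevE6 (lstT (TN.get i).m) fun _ => 1) := by
  intro i
  induction i using Nat.strong_induction_on with
  | _ i ih =>
  intro hi
  have h2 : (2 : F) = 0 := CharTwo.two_eq_zero
  have h := hT i hi
  simp only [chkN] at h
  split at h
  · exact ⟨1, one_mem _, _, List.contains_iff_mem.1 h, by simp⟩
  · next w s j _ =>
    simp only [Bool.and_eq_true, decide_eq_true_eq, List.contains_iff_mem, Bool.or_eq_true,
      Bool.not_eq_true', bne_iff_ne, ne_eq] at h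
    obtain ⟨⟨⟨⟨hj, hs⟩, hkey⟩, hw⟩, h⟩ := h
    obtain ⟨c, hcw⟩ := exists_trace_one hq hK
    set ρ : ℕ → F := val q (fun _ => 0) c
    set x : Wd := if w = true then parW s else
      if rho s = s then [(s, [[]])] else [(s, [[]]), (rho s, [[]])] with hx
    have hx72 : ∀ p ∈ x, p.1 < 72 := by
      obtain ⟨-, h2, h3⟩ := ord_table s hs
      have := (ord_table _ h3).2.1
      rw [hx]
      intro p hp
      split_ifs at hp with h h'
      · exact parW_lt hs p hp
      · simp only [List.mem_singleton] at hp; rw [hp]; exact h2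
      · simp only [List.mem_cons, List.not_mem_nil, or_false] at hp
        rcases hp with rfl | rfl
        · exact h2
        · exact this
    have hxm : evW chevE6 ρ x ∈ twistedE6 F q := by
      rw [hx]
      by_cases hwt : w = true
      · rw [if_pos hwt]
        refine evW_parW_mem hq hK hs hkey _ fun e => absurd e ?_
        rcases hw with hw | hw
        · simp [hwt] at hw
        · exact hw
      · rw [if_neg hwt]
        have := param_mem hq hK hs hkey (c := (1 : F)) fun _ => one_pow q
        rw [one_pow] at this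
        split_ifs at this ⊢ with h' <;> simpa [evW, wordRt, evP, evM] using this
    split at h
    · next L hL =>
      simp only [Bool.and_eq_true, List.all_eq_true, beq_iff_eq] at h
      obtain ⟨hnf, hv⟩ := h
      have e := collected ρ hL (conjBy_lt hx72 onesW_lt) hnf
      rw [evW_conjBy, evW_onesW] at e
      refine RepT.of_conj hxm ?_
      rw [e]
      have e2 : elt (fun r => evP ρ (coef L r)) = prodRt chevE6 (lstT (TN.get j).m) fun _ => 1 := by
        have hval : ∀ r ∈ ord, ∀ b, val01 (coef L r) = some b →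
            evP ρ (coef L r) = if b then 1 else 0 := by
          intro r _ b hb
          have h73 : ρ 73 = c ^ q := by simp [ρ, val]
          have h72 : ρ 72 = c := by simp [ρ, val]
          have key : ∀ Q : Pol, (padd (coef L r) Q).isEmpty = true → evP ρ (coef L r) = evP ρ Q := by
            intro Q hQ
            have := evP_padd h2 ρ (coef L r) Q
            rw [List.isEmpty_iff.1 hQ] at this
            exact CharTwo.add_eq_zero.1 (by rw [← this]; simp [evP])
          have e3 : evP ρ [[], [72], [73]] = 0 := by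
            simp only [evP, evM, List.map_cons, List.map_nil, List.prod_cons, List.prod_nil, List.sum_cons,
              List.sum_nil, mul_one, add_zero, h72, h73, hcw, CharTwo.add_self_eq_zero]
          have e1 : evP ρ [[72], [73]] = 1 := by
            simp [evP, evM, h72, h73, hcw]
          rw [val01] at hb
          split_ifs at hb with ha hb'
          · cases hb
            rcases Bool.or_eq_true_iff.1 ha with ha | ha
            · simp [List.isEmpty_iff.1 ha, evP]
            · simp [key _ ha, e3]
          · cases hb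
            rcases Bool.or_eq_true_iff.1 hb' with ha | ha
            · rw [key _ ha]; simp [evP, evM]
            · rw [key _ ha, e1]; simp
        rw [← elt_eq_prodRt (fun r => (TN.get j).m.testBit r) ?_]
        · refine prodRt_congr fun r hr => ?_
          obtain ⟨hro, hrb⟩ := List.mem_filter.1 hr
          rw [hval r hro _ (hv r hro), if_pos (List.contains_iff_mem.2 (show r ∈ lstT (TN.get j).m from hr))]
        · intro r hr hrb
          rw [hval r hr _ (hv r hr), if_neg]
          rw [List.contains_iff_mem]
          exact fun h => by simp [(List.mem_filter.1 h).2] at hrb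
      rw [e2]
      exact ih j hj (hj.trans hi)
    · simp at h
  · next k j _ =>
    simp only [Bool.and_eq_true, decide_eq_true_eq, List.all_eq_true, beq_iff_eq] at h
    obtain ⟨⟨⟨hj, hk⟩, hb⟩, he⟩ := h
    have he' := evW6 (fun _ => (0 : F)) he (fun p hp => by
      obtain ⟨r, hr, rfl⟩ := List.mem_map.1 hp
      obtain ⟨r', hr', rfl⟩ := List.mem_map.1 hr
      exact hb r' hr')
    rw [evW_onesW, evW_onesW] at he'
    have hmem := H53.E6T.mk_mem (K := F) (powq_powq hq hK) hq.pos.ne' ⟨k, hk⟩
    rw [Subgroup.mem_subgroupOf, H53.E6T.coe_mk] at hmem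
    refine RepT.of_conj hmem ?_
    set n := ((H53.E6T.spec.word ⟨k, hk⟩).map fun i => nElt chevE6 (chevE6.simple i.val) (1 : F)).prod
    have key : ∀ r < 72, ∀ t : F, n * rt chevE6 r t * n⁻¹ = rt chevE6 (moved k r) t := by
      intro r hr t
      have e := orbW_table ⟨k, hk⟩
      simp only at e
      rw [show n = ((orbW k).map fun i => nElt chevE6 (chevE6.simple i) (1 : F)).prod by
        rw [e, List.map_map]; rfl, moved]
      clear e
      have hlt := orbW_lt k hk
      suffices ∀ L : List ℕ, (∀ i ∈ L, i < 6) → L.foldr chevE6.reflectRoot r < 72 ∧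
          (L.map fun i => nElt chevE6 (chevE6.simple i) (1 : F)).prod * rt chevE6 r t *
            ((L.map fun i => nElt chevE6 (chevE6.simple i) (1 : F)).prod)⁻¹ =
            rt chevE6 (L.foldr chevE6.reflectRoot r) t from (this _ hlt).2
      intro L
      induction L with
      | nil => intro _; simp [hr]
      | cons i L ihL =>
        intro hL
        obtain ⟨h1, h2'⟩ := ihL fun x hx => hL x (List.mem_cons_of_mem _ hx)
        refine ⟨reflect_lt i (hL i List.mem_cons_self) _ h1, ?_⟩
        rw [List.map_cons, List.prod_cons, List.foldr_cons,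
          ← H53.sig_conj_rt_two checkedE6 h2 (i := i) (hL i List.mem_cons_self) (show _ < chevE6.nroots from h1),
          ← h2']
        group
    have key2 : ∀ L : List ℕ, (∀ r ∈ L, r < 72) →
        n * prodRt chevE6 L (fun _ => 1) * n⁻¹ = prodRt chevE6 (L.map (moved k)) fun _ => 1 := by
      intro L
      induction L with
      | nil => intro _; simp [prodRt, wordRt]
      | cons x L ihL =>
        intro hL
        have := ihL fun r hr => hL r (List.mem_cons_of_mem _ hr)
        simp only [prodRt, wordRt, List.map_cons, List.prod_cons] at this ⊢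
        rw [← key x (hL x List.mem_cons_self), ← this]
        group
    rw [key2 _ fun r hr => lstT_lt hr, ← he']
    exact ih j hj (hj.trans hi)

theorem symbolic_sound {reps : List (List ℕ)} {TN : Tr NSt} {lenN : ℕ}
    (hN : ∀ i < lenN, chkN reps TN i = true) {TS : Tr St} {len : ℕ}
    (hT : ∀ i < len, chk TS TN lenN i = true) :
    ∀ i < len, ∀ a : ℕ → F, Tw q a →
      (∀ x ∈ ord, (TS.get i).nN.testBit x = true → a x ≠ 0) →
      prodRt chevE6 (lstT (TS.get i).nS) a ∈ twistedE6 F q →
      prodRt chevE6 (lstT (TS.get i).nS) a * prodRt chevE6 (lstT (TS.get i).nS) a = 1 →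
      prodRt chevE6 (lstT (TS.get i).nS) a = 1 ∨ RepT q reps (prodRt chevE6 (lstT (TS.get i).nS) a) := by
  intro i
  induction i using Nat.strong_induction_on with
  | _ i ih =>
  intro hi a ha hne hg hsq
  set N := (TS.get i).nN
  set m := (TS.get i).nS
  set g := prodRt chevE6 (lstT m) a with hgdef
  have h := hT i hi
  simp only [chk] at h
  have hdrop : ∀ r ∈ ord, a r = 0 →
      prodRt chevE6 ((lstT m).filter fun x => !(x == r || x == rho r)) a = g := by
    intro r hr h0
    refine prodRt_filter_of _ _ _ fun x _ hx => ?_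
    simp only [Bool.not_eq_false', Bool.or_eq_true, beq_iff_eq] at hx
    rcases hx with rfl | rfl
    · exact h0
    · rw [ha r hr, h0, powq_zero hq hK]
  split at h
  · left
    rw [List.isEmpty_iff] at h
    rw [hgdef, h]
    simp [prodRt, wordRt]
  · next r j0 j1 _ =>
    simp only [Bool.and_eq_true, decide_eq_true_eq, beq_iff_eq, List.all_eq_true, Bool.or_eq_true,
      Bool.not_eq_true', List.contains_iff_mem] at h
    obtain ⟨⟨⟨⟨⟨⟨hj0, hj1⟩, hr⟩, e0⟩, e1⟩, n0⟩, n1⟩ := h
    by_cases h0 : a r = 0
    · have e : prodRt chevE6 (lstT (TS.get j0).nS) a = g := by rw [e0]; exact hdrop r hr h0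
      rw [← e]
      exact ih j0 hj0 (hj0.trans hi) a ha
        (fun x hx hx' => hne x hx ((n0 x hx).resolve_left (by simp [hx'])).1)
        (by rw [e]; exact hg) (by rw [e]; exact hsq)
    · have e : prodRt chevE6 (lstT (TS.get j1).nS) a = g := by rw [e1]
      rw [← e]
      refine ih j1 hj1 (hj1.trans hi) a ha (fun x hx hx' => ?_) (by rw [e]; exact hg)
        (by rw [e]; exact hsq)
      rcases (n1 x hx).resolve_left (by simp [hx']) with (h | h) | h
      · exact hne x hx h
      · exact h ▸ h0
      · rw [h, ha r hr]; exact pow_ne_zero _ h0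
  · next u _ =>
    split at h
    · next L hL =>
      simp only [Bool.and_eq_true, List.contains_iff_mem] at h
      obtain ⟨⟨hnf, hu⟩, hk⟩ := h
      exact absurd (square_coef m a hL hnf hsq u hu) (evP_ne N a hk hne)
    · simp at h
  · next u s j _ =>
    simp only [Bool.and_eq_true, decide_eq_true_eq, beq_iff_eq, List.all_eq_true, Bool.or_eq_true,
      Bool.not_eq_true', List.contains_iff_mem] at h
    obtain ⟨⟨⟨⟨hj, hs⟩, ej⟩, nj⟩, hm⟩ := h
    split at hm
    · next L hL =>
      simp only [Bool.and_eq_true, List.contains_iff_mem] at hm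
      obtain ⟨⟨hnf, hu⟩, hm⟩ := hm
      split at hm
      · next mm hP =>
        have h0 := square_coef m a hL hnf hsq u hu
        rw [hP, evP_single] at h0
        obtain ⟨v, hv, hv0⟩ := List.mem_map.1 (List.prod_eq_zero_iff.1 h0)
        simp only [List.all_eq_true, Bool.or_eq_true, Bool.and_eq_true, beq_iff_eq,
          List.contains_iff_mem] at hm
        have hs0 : a s = 0 := by
          rcases hm v hv with (h | h) | ⟨h1, h2⟩
          · exact h ▸ hv0
          · rw [h, ha s hs] at hv0
            exact pow_eq_zero_iff hq.pos.ne' |>.1 hv0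
          · exact absurd hv0 (hne v h1 h2)
        have e : prodRt chevE6 (lstT (TS.get j).nS) a = g := by rw [ej]; exact hdrop s hs hs0
        rw [← e]
        exact ih j hj (hj.trans hi) a ha
          (fun x hx hx' => hne x hx ((nj x hx).resolve_left (by simp [hx'])).1)
          (by rw [e]; exact hg) (by rw [e]; exact hsq)
      · simp at hm
    · simp at hm
  · next kd s u j _ =>
    simp only [Bool.and_eq_true, decide_eq_true_eq, List.contains_iff_mem] at h
    obtain ⟨⟨⟨⟨hj, hs⟩, hu⟩, hkey⟩, hm⟩ := h
    split at hm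
    · next L hL =>
      simp only [Bool.and_eq_true, List.all_eq_true, Bool.or_eq_true, Bool.not_eq_true', beq_iff_eq,
        List.isEmpty_iff, List.contains_iff_mem, bne_iff_ne, ne_eq] at hm
      obtain ⟨⟨⟨⟨hnf, -⟩, hsupp⟩, hknown⟩, hkind⟩ := hm
      have hconj : ∀ c : F, evW chevE6 (val q a c) (parW s) * g * (evW chevE6 (val q a c) (parW s))⁻¹ =
          elt fun r => evP (val q a c) (coef L r) := by
        intro c
        have e := collected (val q a c) hL (conjBy_lt (parW_lt hs) varW_lt) hnf
        rw [evW_conjBy, evW_varW] at e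
        rw [← e, prodRt_congr (a := val q a c) (b := a) fun r hr => val_of_lt (lstT_lt hr)]
      have hmem : ∀ c : F, (rho s = s → c ^ q = c) →
          evW chevE6 (val q a c) (parW s) * g * (evW chevE6 (val q a c) (parW s))⁻¹ ∈ twistedE6 F q :=
        fun c hc => mul_mem (mul_mem (evW_parW_mem hq hK hs hkey a hc) hg)
          (inv_mem (evW_parW_mem hq hK hs hkey a hc))
      have htw : ∀ c : F, (rho s = s → c ^ q = c) → Tw q fun r => evP (val q a c) (coef L r) :=
        fun c hc => tw_of_mem hq hK (by rw [← hconj c]; exact hmem c hc)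
      obtain ⟨c, hc, hzero⟩ := exists_param hq hK hkind hs hu ha hne hsq htw
      set ρ := val q a c with hρ
      set xs := evW chevE6 ρ (parW s)
      set a' : ℕ → F := fun r => evP ρ (coef L r) with ha'
      have he : prodRt chevE6 (lstT (TS.get j).nS) a' = xs * g * xs⁻¹ := by
        rw [hconj c]
        refine elt_eq_prodRt _ fun r hr hrb => ?_
        rcases hsupp r hr with ((h | h) | h) | h
        · exact h ▸ hzero
        · rw [h]
          exact (htw c hc u hu).trans (by simp only; rw [hzero, powq_zero hq hK])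
        · simp [(List.mem_filter.1 h).2] at hrb
        · rw [ha']; simp [h, evP]
      have hsq' : xs * g * xs⁻¹ * (xs * g * xs⁻¹) = 1 := by
        rw [show xs * g * xs⁻¹ * (xs * g * xs⁻¹) = xs * (g * g) * xs⁻¹ by group, hsq]
        group
      have := ih j hj (hj.trans hi) a' (htw c hc)
        (fun x hx hx' => evP_ne N ρ ((hknown x hx).resolve_left (by simp [hx'])).2 fun y hy hy' => by
          rw [hρ, val_of_lt (ord_table y hy).2.1]; exact hne y hy hy')
        (by rw [he]; exact hmem c hc) (by rw [he]; exact hsq')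
      rw [he] at this
      rcases this with h1 | h1
      · left
        rw [mul_inv_eq_one, mul_eq_left] at h1
        exact h1
      · exact Or.inr (RepT.of_conj (evW_parW_mem hq hK hs hkey a hc) h1)
    · simp at hm
  · next j e v _ =>
    simp only [Bool.and_eq_true, decide_eq_true_eq, beq_iff_eq, List.all_eq_true,
      List.contains_iff_mem, List.mem_range] at h
    obtain ⟨⟨⟨⟨hj, hlst⟩, hall⟩, htor⟩, hsym⟩ := h
    right
    obtain ⟨c, hcm, hc⟩ := exists_scaleT hq hK htor hsym ha fun r hr => hne r (lstT_sub hr) (hall r hr)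
    refine RepT.of_conj hcm ?_
    have key : ∀ L : List ℕ, (∀ r ∈ L, r ∈ lstT m) →
        torus chevE6 c * prodRt chevE6 L a * (torus chevE6 c)⁻¹ = prodRt chevE6 L fun _ => 1 := by
      intro L
      induction L with
      | nil => intro _; simp [prodRt, wordRt]
      | cons x L ihL =>
        intro hL
        have := ihL fun r hr => hL r (List.mem_cons_of_mem _ hr)
        have hx : x ∈ lstT m := hL x List.mem_cons_self
        have h1 := checkedE6.torus_conj_rt c (show x < chevE6.nroots from lstT_lt hx) (a x)
        rw [hc x hx] at h1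
        simp only [prodRt, wordRt, List.map_cons, List.prod_cons] at this ⊢
        rw [← h1, ← this]
        group
    rw [key _ fun r hr => hr, ← hlst]
    exact numeric_sound hq hK hN j hj

end H52.E6Inv
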